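import Mathlib.RingTheory.Derivation.Basic
import Mathlib.Algebra.CharP.Lemmas
import Mathlib.Data.Nat.Choose.Dvd
import Mathlib.Algebra.CharP.Invertible

/-!
# Iterates of a derivation in characteristic `p`
-/

universe v u

namespace Groth.Agent.Lib.PCurv99.Basic

variable {B : Type u} [CommRing B] {M : Type*} [AddCommGroup M] [Module B M]

theorem iterate_smul (th : B → B) (L : M →+ M) (h : ∀ (b : B) (m : M), L (b • m) = b • L m + th b • m) (k : ℕ)
    (b : B) (m : M) :
    L^[k] (b • m) = ∑ i ∈ Finset.range (k + 1), k.choose i • (th^[i] b • L^[k - i] m) := by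
  induction k with
  | zero => simp
  | succ k ih =>
    rw [Function.iterate_succ_apply', ih, map_sum,
      show (∑ i ∈ Finset.range (k + 1 + 1), (k + 1).choose i • (th^[i] b • L^[k + 1 - i] m)) =
        ∑ i ∈ Finset.range (k + 1), (k.choose i • (th^[i] b • L^[k + 1 - i] m) +
          k.choose i • (th^[i + 1] b • L^[k - i] m)) from ?_]
    · refine Finset.sum_congr rfl fun i hi => ?_
      have hi' : i ≤ k := Nat.lt_succ_iff.mp (Finset.mem_range.mp hi)
      rw [map_nsmul, h, smul_add, Function.iterate_succ_apply' th, Nat.succ_sub hi', Function.iterate_succ_apply' L]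
    · rw [Finset.sum_add_distrib]
      have h1 := Finset.sum_range_succ' (fun i => (k + 1).choose i • (th^[i] b • L^[k + 1 - i] m)) (k + 1)
      rw [h1]
      simp only [Nat.choose_succ_succ, add_smul, Finset.sum_add_distrib, Nat.succ_sub_succ_eq_sub,
        Nat.choose_zero_right, one_smul, Function.iterate_zero, id_eq, Nat.sub_zero]
      have h2 := Finset.sum_range_succ' (fun i => k.choose i • (th^[i] b • L^[k + 1 - i] m)) (k + 1)
      rw [Finset.sum_range_succ, Nat.choose_succ_self, zero_smul, add_zero] at h2
      rw [h2]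
      simp only [Nat.succ_sub_succ_eq_sub, Nat.choose_zero_right, one_smul, Function.iterate_zero, id_eq,
        Nat.sub_zero]
      abel

theorem iterate_prime_smul (p : ℕ) [Fact p.Prime] [CharP B p] (th : B → B) (L : M →+ M)
    (h : ∀ (b : B) (m : M), L (b • m) = b • L m + th b • m) (b : B) (m : M) :
    L^[p] (b • m) = b • L^[p] m + th^[p] b • m := by
  have hp : p.Prime := Fact.out
  rw [iterate_smul th L h, Finset.sum_range_succ]
  rw [Finset.sum_eq_single 0]
  · simp
  · intro i hi hi0
    rw [← Nat.cast_smul_eq_nsmul B, (CharP.cast_eq_zero_iff B p _).mpr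
      (hp.dvd_choose_self hi0 (Finset.mem_range.mp hi)), zero_smul]
  · exact fun h0 => absurd (Finset.mem_range.mpr hp.pos) h0

variable {A : Type v} [CommRing A] [Algebra A B]

theorem independent (p : ℕ) [Fact p.Prime] [CharP B p] (th : Derivation A B B)
    (hgen : ∀ c : B, (∀ x, c * th x = 0) → c = 0) (m : ℕ) (hm : m < p) :
    ∀ q : ℕ → B, (∀ b, ∑ k ∈ Finset.range (m + 1), q k * th^[k] b = 0) → ∀ k ≤ m, q k = 0 := by
  induction m with
  | zero =>
    intro q hq k hk
    obtain rfl := Nat.le_zero.mp hk
    simpa using hq 1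
  | succ m ih =>
    intro q hq
    have hp : p.Prime := Fact.out
    have hL : ∀ (b c : B), (th : B →ₗ[A] B).toAddMonoidHom (b • c) =
        b • (th : B →ₗ[A] B).toAddMonoidHom c + th b • c := fun b c => by
      show th (b * c) = b * th c + th b * c
      rw [Derivation.leibniz, smul_eq_mul, smul_eq_mul]
      ring
    have hexp : ∀ (k : ℕ) (x b : B), k ≤ m + 1 →
        th^[k] (x * b) = ∑ j ∈ Finset.range (m + 2), (k.choose j : B) * (th^[k - j] x * th^[j] b) := by
      intro k x b hk
      have h := iterate_smul th (th : B →ₗ[A] B).toAddMonoidHom hL k b x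
      change th^[k] (b * x) = _ at h
      rw [mul_comm x b, h, ← Finset.sum_subset (Finset.range_mono (show k + 1 ≤ m + 2 by omega))
        (fun j _ hj => by rw [Nat.choose_eq_zero_of_lt (by simpa using hj), Nat.cast_zero, zero_mul])]
      refine Finset.sum_congr rfl fun j _ => ?_
      rw [nsmul_eq_mul, smul_eq_mul, mul_comm (th^[j] b)]
      rfl
    have hr : ∀ x, (m + 1 : ℕ) * q (m + 1) * th x = 0 := by
      intro x
      let r : ℕ → B := fun j => ∑ k ∈ Finset.range (m + 2), q k * ((k.choose j : B) * th^[k - j] x) - x * q j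
      have htop : r (m + 1) = 0 := by
        simp only [r]
        rw [Finset.sum_eq_single (m + 1)]
        · simp [mul_comm]
        · intro k hk hne
          rw [Nat.choose_eq_zero_of_lt (by rw [Finset.mem_range] at hk; omega)]
          simp
        · simp
      have hrz : ∀ b, ∑ j ∈ Finset.range (m + 1), r j * th^[j] b = 0 := by
        intro b
        have h0 : ∑ j ∈ Finset.range (m + 2), r j * th^[j] b = 0 := by
          have e1 : ∑ j ∈ Finset.range (m + 2), x * (q j * th^[j] b) = 0 := by rw [← Finset.mul_sum, hq b, mul_zero]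
          have e2 : ∑ j ∈ Finset.range (m + 2), ∑ k ∈ Finset.range (m + 2),
              q k * ((k.choose j : B) * th^[k - j] x) * th^[j] b = 0 := by
            rw [Finset.sum_comm, ← hq (x * b)]
            refine Finset.sum_congr rfl fun k hk => ?_
            rw [hexp k x b (by rw [Finset.mem_range] at hk; omega), Finset.mul_sum]
            refine Finset.sum_congr rfl fun j _ => ?_
            ring
          simp only [r, sub_mul, Finset.sum_sub_distrib, Finset.sum_mul, mul_assoc] at e2 ⊢
          rw [e2, e1, sub_zero]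
        rwa [Finset.sum_range_succ, htop, zero_mul, add_zero] at h0
      have hm' := ih (Nat.lt_of_succ_lt hm) r hrz m le_rfl
      simp only [r, Finset.sum_range_succ] at hm'
      rw [Finset.sum_eq_zero (fun k hk => by
        rw [Nat.choose_eq_zero_of_lt (Finset.mem_range.mp hk)]; simp)] at hm'
      rw [← hm']
      simp only [Nat.choose_self, Nat.choose_succ_self_right, Nat.sub_self, Function.iterate_zero, id_eq,
        Nat.add_sub_cancel_left, Function.iterate_one]
      push_cast
      ring
    have hunit : IsUnit ((m + 1 : ℕ) : B) := by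
      rw [CharP.isUnit_natCast_iff hp]
      exact fun h => absurd (Nat.le_of_dvd (Nat.succ_pos m) h) (by omega)
    have hq0 : q (m + 1) = 0 := (hunit.mul_right_eq_zero).mp (hgen _ hr)
    intro k hk
    rcases Nat.lt_or_eq_of_le hk with hk' | rfl
    · refine ih (Nat.lt_of_succ_lt hm) q (fun b => ?_) k (Nat.lt_succ_iff.mp hk')
      have := hq b
      rwa [Finset.sum_range_succ, hq0, zero_mul, add_zero] at this
    · exact hq0

theorem sum_shift {N : Type*} [AddCommGroup N] [Module B N] (th : B → B) (f g : B) (p' : ℕ) (hp : 1 < p' + 1)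
    (a : ℕ → B) (v : ℕ → N) (hv : v (p' + 1) = g • v 1) :
    ∑ k ∈ Finset.range (p' + 1), (f * th (a k)) • v k + ∑ k ∈ Finset.range (p' + 1), (f * a k) • v (k + 1) =
      ∑ k ∈ Finset.range (p' + 1), (f * th (a k) + (if k = 0 then 0 else f * a (k - 1)) +
        (if k = 1 then f * a p' * g else 0)) • v k := by
  classical
  simp only [add_smul, Finset.sum_add_distrib, ite_smul, zero_smul, Finset.sum_ite_eq', Finset.mem_range,
    if_pos hp]
  rw [add_assoc]
  congr 1
  rw [Finset.sum_range_succ (fun k => (f * a k) • v (k + 1)), hv, smul_smul,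
    Finset.sum_range_succ' (fun k => if k = 0 then (0 : N) else (f * a (k - 1)) • v k)]
  simp

theorem expand (p : ℕ) (hp : 1 < p) (th : B → B) (L : M →+ M)
    (hth : ∀ a b, th (a * b) = a * th b + th a * b) (hth0 : ∀ a b, th (a + b) = th a + th b)
    (h : ∀ (b : B) (m : M), L (b • m) = b • L m + th b • m) (f g : B)
    (hL : ∀ m, L^[p] m = g • L m) (hthp : ∀ b, th^[p] b = g * th b) (n : ℕ) :
    ∃ q : ℕ → B, (∀ m, (fun z => f • L z)^[n] m = ∑ k ∈ Finset.range p, q k • L^[k] m) ∧
      ∀ b, (fun z => f * th z)^[n] b = ∑ k ∈ Finset.range p, q k * th^[k] b := by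
  classical
  induction n with
  | zero =>
    refine ⟨fun k => if k = 0 then 1 else 0, fun m => ?_, fun b => ?_⟩
    · simp [Finset.mem_range.mpr (show 0 < p by omega), show 0 < p by omega]
    · simp [show 0 < p by omega]
  | succ n ih =>
    obtain ⟨q, hq1, hq2⟩ := ih
    obtain ⟨p', rfl⟩ : ∃ p', p = p' + 1 := ⟨p - 1, by omega⟩
    refine ⟨fun k => f * th (q k) + (if k = 0 then 0 else f * q (k - 1)) + (if k = 1 then f * q p' * g else 0),
      fun m => ?_, fun b => ?_⟩
    · rw [Function.iterate_succ_apply', hq1]
      simp only [map_sum, h, Finset.smul_sum, smul_add, smul_smul]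
      rw [Finset.sum_add_distrib, add_comm]
      simp only [← Function.iterate_succ_apply' L]
      exact sum_shift th f g p' hp q (fun k => L^[k] m) (by simpa using hL m)
    · rw [Function.iterate_succ_apply', hq2]
      have hs0 : ∀ (s : Finset ℕ) (F : ℕ → B), th (∑ k ∈ s, F k) = ∑ k ∈ s, th (F k) := fun s F =>
        map_sum (AddMonoidHom.mk' th hth0) F s
      simp only [hs0, hth, Finset.mul_sum, mul_add, ← mul_assoc]
      rw [Finset.sum_add_distrib, add_comm]
      simp only [← Function.iterate_succ_apply' th]
      exact sum_shift th f g p' hp q (fun k => th^[k] b) (by simpa using hthp b)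

end Groth.Agent.Lib.PCurv99.Basic
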